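import Cfsg.Agent.Small.DegreeGraph.BlockThree
import Cfsg.Agent.Small.DegreeGraph.Core
import Cfsg.Agent.Small.DegreeGraph.Order5616.Block
import Cfsg.Prelude.Def_DegreeGraph

/-!
# Degree primes of the simple groups of order 2520 and 5616
-/

set_option autoImplicit false
set_option linter.unusedSectionVars false

namespace Cfsg.Lib.Small.DegreeGraph

open Cfsg.Lib.Chars Cfsg.Lib.Blocks Cfsg.Lib.Blocks.SmallOrder Cfsg.Lib.Blocks.SylowCount
  Cfsg.Lib.Blocks.DegreeEquation
open scoped _root_.Classical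

universe u

theorem mem_degreePrimes_of {G : Type u} [Group G] [Fintype G] {p : ℕ} (hp : p.Prime) (χ : IrrCharacter G)
    (h : p ∣ deg (χ : G → ℂ)) : p ∈ Cfsg.degreePrimes G :=
  ⟨hp, deg (χ : G → ℂ), ⟨χ, rfl⟩, h⟩

theorem terms_2520_one : terms 7 360 2520 1 51 1 = [-6, 8, 15, -20, 36] := by decide +kernel

theorem terms_2520_three : terms 7 360 2520 1 51 3 = [-4, 10, -18, 24, 45] := by decide +kernel

theorem counts_2520 : ∀ n < 361, 360 % n = 0 → n % 7 = 1 → n = 1 ∨ n = 8 ∨ n = 15 ∨ n = 36 ∨ n = 120 := by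
  decide +kernel

theorem kills_2520 : (checkN 7 360 51 8 && checkN 7 360 51 15 && checkN 7 360 51 36) = true := by
  decide +kernel

variable {G : Type u} [Group G] [IsSimpleGroup G]

set_option maxHeartbeats 1000000 in
/-- The degree primes in a simple group of order 2520. -/
theorem degreePrimes_2520 [Finite G] (hG : Nat.card G = 2520) :
    2 ∈ Cfsg.degreePrimes G ∧ 5 ∈ Cfsg.degreePrimes G ∧ 7 ∈ Cfsg.degreePrimes G := by
  have := Fintype.ofFinite G
  have : Fact (Nat.Prime 7) := ⟨by norm_num⟩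
  have hnc : ¬ ∀ a b : G, a * b = b * a :=
    Cfsg.Lib.Small.not_comm_of_isSimple (by rw [hG]; norm_num)
  obtain ⟨P⟩ : Nonempty (Sylow 7 G) := inferInstance
  obtain ⟨C, hC, -, hidx, hm, he2⟩ := exists_core hnc (m := 360) (by rw [hG]) (by norm_num) P
  obtain ⟨h1, h2⟩ := Cfsg.Lib.Small.sylow_facts P (a := 1) (m := 360) (by rw [hG]; norm_num) (by norm_num)
  have hn1 := Cfsg.Lib.Small.card_sylow_ne_one (p := 7) hnc (by rw [hG]; norm_num)
  have hchk := checkN_card_sylow (not_isCyclic_of_not_comm hnc) 7 360 51 (by rw [hG]) (by norm_num)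
    (by norm_num)
  have hk := kills_2520
  simp only [Bool.and_eq_true] at hk
  have h120 : idx C = 120 := by
    rw [hidx]
    rcases counts_2520 _ (Nat.lt_succ_of_le (Nat.le_of_dvd (by norm_num) h1)) (Nat.mod_eq_zero_of_dvd h1) h2
      with e | e | e | e | e
    · exact absurd e hn1
    · rw [e, hk.1.1] at hchk; exact Bool.noConfusion hchk
    · rw [e, hk.1.2] at hchk; exact Bool.noConfusion hchk
    · rw [e, hk.2] at hchk; exact Bool.noConfusion hchk
    · exact e
  rw [h120] at hm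
  have hev : eC C * Nat.card C.V = 3 := by omega
  have he : eC C = 3 := by
    rcases (Nat.dvd_prime Nat.prime_three).1 ⟨_, hev.symm⟩ with e | e
    · omega
    · exact e
  have hV : Nat.card C.V = 1 := by rw [he] at hev; omega
  obtain ⟨M, hM⟩ := exists_isPModular (Fact.out : Nat.Prime 7)
  obtain ⟨ν, δ, hD⟩ := C.exists_orbitData hM C.oneV
  obtain ⟨a, b, hT, ha, hb, hc, hrel⟩ := exists_three hC hM hD hV he (by norm_num)
  rw [hG, h120, he, hV] at ha hb hc
  have hS : 2520 ≤ 51 * 51 := by norm_num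
  have ma := mem_terms hS ha.1 ha.2
  have mb := mem_terms hS hb.1 hb.2
  have mc := mem_terms hS hc.1 hc.2
  norm_num only [terms_2520_one] at ma mb
  norm_num only [terms_2520_three] at mc
  simp only [List.mem_cons, List.not_mem_nil, or_false] at ma mb mc
  have habs : ∀ χ : IrrCharacter G, χ ∈ ({oneG G, a, b} : Finset (IrrCharacter G)) →
      (deg (χ : G → ℂ) : ℤ) = |sdeg C χ| := fun χ hχ => by
    rcases hT.sign χ hχ with e | e <;> simp [sdeg, e]
  have hexc : (deg (ν 1 : G → ℂ) : ℤ) = |1 + sdeg C a + sdeg C b| := by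
    rw [hrel]
    rcases hD.sign with e | e <;> simp [e]
  have hda := habs a (by simp)
  have hdb := habs b (by simp)
  have hsum := hT.sum_deg
  have hcard := hT.card_exc
  rw [hG, show (Finset.univ.image ν).card = 2 by omega] at hsum
  have hpairs : (sdeg C a = -6 ∧ sdeg C b = 15) ∨ (sdeg C a = 15 ∧ sdeg C b = -6) ∨
      (sdeg C a = 8 ∧ sdeg C b = 15) ∨ (sdeg C a = 15 ∧ sdeg C b = 8) ∨
      (sdeg C a = -20 ∧ sdeg C b = 15) ∨ (sdeg C a = 15 ∧ sdeg C b = -20) ∨
      (sdeg C a = 8 ∧ sdeg C b = 36) ∨ (sdeg C a = 36 ∧ sdeg C b = 8) := by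
    rcases ma with e1 | e1 | e1 | e1 | e1 <;> rcases mb with e2 | e2 | e2 | e2 | e2 <;>
      omega
  have hrest : ∀ x y z : ℕ, deg (a : G → ℂ) = x → deg (b : G → ℂ) = y → deg (ν 1 : G → ℂ) = z →
      1 + x ^ 2 + y ^ 2 + 2 * z ^ 2 < 2520 → (2 ∣ x ∨ 2 ∣ y) → (5 ∣ x ∨ 5 ∣ y) →
      2 ∈ Cfsg.degreePrimes G ∧ 5 ∈ Cfsg.degreePrimes G ∧ 7 ∈ Cfsg.degreePrimes G := by
    rintro x y z rfl rfl rfl hlt h2' h5'
    refine ⟨?_, ?_, ?_⟩
    · rcases h2' with h | h <;> exact mem_degreePrimes_of Nat.prime_two _ h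
    · rcases h5' with h | h <;> exact mem_degreePrimes_of Nat.prime_five _ h
    · obtain ⟨η, hη⟩ : hT.rest.Nonempty := by
        rw [Finset.nonempty_iff_ne_empty]
        intro e
        rw [e, Finset.sum_empty] at hsum
        omega
      exact mem_degreePrimes_of (by norm_num) η (hT.rest_dvd_deg hη)
  rcases hpairs with ⟨e1, e2⟩ | ⟨e1, e2⟩ | ⟨e1, e2⟩ | ⟨e1, e2⟩ | ⟨e1, e2⟩ | ⟨e1, e2⟩ | ⟨e1, e2⟩ | ⟨e1, e2⟩ <;>
    rw [e1, e2] at hexc <;> rw [e1] at hda <;> rw [e2] at hdb <;> norm_num at hexc hda hdb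
  · exact hrest 6 15 10 (by omega) (by omega) (by omega) (by norm_num) (by norm_num) (by norm_num)
  · exact hrest 15 6 10 (by omega) (by omega) (by omega) (by norm_num) (by norm_num) (by norm_num)
  · exact hrest 8 15 24 (by omega) (by omega) (by omega) (by norm_num) (by norm_num) (by norm_num)
  · exact hrest 15 8 24 (by omega) (by omega) (by omega) (by norm_num) (by norm_num) (by norm_num)
  · exact hrest 20 15 4 (by omega) (by omega) (by omega) (by norm_num) (by norm_num) (by norm_num)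
  · exact hrest 15 20 4 (by omega) (by omega) (by omega) (by norm_num) (by norm_num) (by norm_num)
  · rw [show deg (a : G → ℂ) = _ from Int.natCast_inj.1 (hda.trans (Nat.cast_ofNat).symm), show deg (b : G → ℂ) = _ from Int.natCast_inj.1 (hdb.trans (Nat.cast_ofNat).symm), show deg (ν 1 : G → ℂ) = _ from Int.natCast_inj.1 (hexc.trans (Nat.cast_ofNat).symm)] at hsum; omega
  · rw [show deg (a : G → ℂ) = _ from Int.natCast_inj.1 (hda.trans (Nat.cast_ofNat).symm), show deg (b : G → ℂ) = _ from Int.natCast_inj.1 (hdb.trans (Nat.cast_ofNat).symm), show deg (ν 1 : G → ℂ) = _ from Int.natCast_inj.1 (hexc.trans (Nat.cast_ofNat).symm)] at hsum; omega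

/-- The degree primes in a simple group of order 5616. -/
theorem degreePrimes_5616 [Finite G] (hG : Nat.card G = 5616) :
    3 ∈ Cfsg.degreePrimes G ∧ 13 ∈ Cfsg.degreePrimes G := by
  have := Fintype.ofFinite G
  have : Fact (Nat.Prime 13) := ⟨by norm_num⟩
  obtain ⟨M, C, ν, a, b, S⟩ := Order5616.exists_setup (G := G) hG
  refine ⟨mem_degreePrimes_of Nat.prime_three b (by rw [S.deg_b]; norm_num), ?_⟩
  have h1 := S.rest_deg
  obtain ⟨η, hη⟩ : S.three.rest.Nonempty := by
    rw [Finset.nonempty_iff_ne_empty]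
    intro e
    rw [e, Finset.sum_empty] at h1
    omega
  exact mem_degreePrimes_of (by norm_num) η (S.three.rest_dvd_deg hη)

end Cfsg.Lib.Small.DegreeGraph
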