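import Cfsg.Agent.Small.DegreeGraph.Data.AltSeven
import Cfsg.Agent.Small.DegreeGraph.Order5616.Main
import Cfsg.Agent.Classical.Misc.SmallPSL
import Cfsg.Agent.S0494
import Cfsg.Agent.S0495
import Cfsg.Agent.S0497
import Cfsg.Agent.S0498
import Cfsg.Agent.S0981
import Cfsg.Agent.S0984
import Cfsg.Agent.S1011
import Cfsg.Agent.S1020
import Cfsg.Agent.S1021
import Cfsg.Agent.S4774
import Cfsg.Agent.S4812

/-!
# Uniqueness and degree data of the simple groups of order below 6000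
-/

set_option autoImplicit false
set_option linter.unusedSectionVars false

namespace Cfsg.Lib.Small.DegreeGraph

open Matrix

universe u v

/-- The orders of the non-abelian simple groups below 6000. -/
def orders : List ℕ := [60, 168, 360, 504, 660, 1092, 2448, 2520, 3420, 4080, 5616]

/-- The largest prime factor, for these orders. -/
def topPrime (n : ℕ) : ℕ :=
  if n = 60 ∨ n = 360 then 5 else if n = 168 ∨ n = 504 ∨ n = 2520 then 7 else if n = 660 then 11
    else if n = 1092 ∨ n = 5616 then 13 else if n = 2448 ∨ n = 4080 then 17 else 19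

theorem card_galois (k : ℕ) (hk : k ≠ 0) [Fintype (GaloisField 2 k)] :
    Fintype.card (GaloisField 2 k) = 2 ^ k := by
  rw [← Nat.card_eq_fintype_card]
  exact GaloisField.card 2 k hk

/-- `PSL(2,q)` for the orders below. -/
theorem psl_simple_card (F : Type v) [Field F] [Fintype F] {q n : ℕ} (hq : Fintype.card F = q)
    (h4 : 4 ≤ q) (hn : q * (q ^ 2 - 1) = Nat.gcd 2 (q - 1) * n) :
    IsSimpleGroup (ProjectiveSpecialLinearGroup (Fin 2) F) ∧
      Nat.card (ProjectiveSpecialLinearGroup (Fin 2) F) = n := by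
  classical
  refine ⟨Matrix.ProjectiveSpecialLinearGroup.rank_two_simple (by rw [Nat.card_eq_fintype_card, hq]; omega),
    Nat.eq_of_mul_eq_mul_left (Nat.gcd_pos_of_pos_left (q - 1) Nat.zero_lt_two) ?_⟩
  rw [Cfsg.Lib.Classical.SmallPSL.card_psl hq, hn]

section

variable {S : Type u} [Group S] [Finite S] [IsSimpleGroup S] {T : Type v} [Group T] [Finite T]
  [IsSimpleGroup T]

/-- Simple groups of the same order below 6000 are isomorphic. -/
theorem nonempty_equiv (h : Nat.card S ∈ orders) (hT : Nat.card T = Nat.card S) :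
    Nonempty (T ≃* S) := by
  simp only [orders, List.mem_cons, List.not_mem_nil, or_false] at h
  rcases h with e | e | e | e | e | e | e | e | e | e | e <;> rw [e] at hT
  · obtain ⟨f⟩ := Cfsg.Agent.S0494.result hT; obtain ⟨g⟩ := Cfsg.Agent.S0494.result e
    exact ⟨f.trans g.symm⟩
  · have : Fact (Nat.Prime 7) := ⟨by norm_num⟩
    obtain ⟨f⟩ := Cfsg.Agent.S0495.result hT (F := ZMod 7) (ZMod.card 7)
    obtain ⟨g⟩ := Cfsg.Agent.S0495.result e (F := ZMod 7) (ZMod.card 7)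
    exact ⟨f.trans g.symm⟩
  · obtain ⟨f⟩ := Cfsg.Agent.S0497.result hT; obtain ⟨g⟩ := Cfsg.Agent.S0497.result e
    exact ⟨f.trans g.symm⟩
  · have : Fintype (GaloisField 2 3) := Fintype.ofFinite _
    obtain ⟨f⟩ := Cfsg.Agent.S1011.result hT (F := GaloisField 2 3) (card_galois 3 (by norm_num))
    obtain ⟨g⟩ := Cfsg.Agent.S1011.result e (F := GaloisField 2 3) (card_galois 3 (by norm_num))
    exact ⟨f.trans g.symm⟩
  · have : Fact (Nat.Prime 11) := ⟨by norm_num⟩
    obtain ⟨f⟩ := Cfsg.Agent.S0498.result 11 (Or.inl rfl) (by rw [hT]; norm_num) (G := T)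
      (F := ZMod 11) (ZMod.card 11)
    obtain ⟨g⟩ := Cfsg.Agent.S0498.result 11 (Or.inl rfl) (by rw [e]; norm_num) (G := S)
      (F := ZMod 11) (ZMod.card 11)
    exact ⟨f.trans g.symm⟩
  · have : Fact (Nat.Prime 13) := ⟨by norm_num⟩
    obtain ⟨f⟩ := Cfsg.Agent.S0498.result 13 (Or.inr rfl) (by rw [hT]; norm_num) (G := T)
      (F := ZMod 13) (ZMod.card 13)
    obtain ⟨g⟩ := Cfsg.Agent.S0498.result 13 (Or.inr rfl) (by rw [e]; norm_num) (G := S)
      (F := ZMod 13) (ZMod.card 13)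
    exact ⟨f.trans g.symm⟩
  · have : Fact (Nat.Prime 17) := ⟨by norm_num⟩
    obtain ⟨f⟩ := Cfsg.Agent.S1020.result hT (F := ZMod 17) (ZMod.card 17)
    obtain ⟨g⟩ := Cfsg.Agent.S1020.result e (F := ZMod 17) (ZMod.card 17)
    exact ⟨f.trans g.symm⟩
  · obtain ⟨f⟩ := Cfsg.Agent.S0984.result hT; obtain ⟨g⟩ := Cfsg.Agent.S0984.result e
    exact ⟨f.trans g.symm⟩
  · have : Fact (Nat.Prime 19) := ⟨by norm_num⟩
    obtain ⟨f⟩ := Cfsg.Agent.S1021.result hT (F := ZMod 19) (ZMod.card 19)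
    obtain ⟨g⟩ := Cfsg.Agent.S1021.result e (F := ZMod 19) (ZMod.card 19)
    exact ⟨f.trans g.symm⟩
  · have : Fintype (GaloisField 2 4) := Fintype.ofFinite _
    obtain ⟨f⟩ := Cfsg.Agent.S0981.result hT (F := GaloisField 2 4) (card_galois 4 (by norm_num))
    obtain ⟨g⟩ := Cfsg.Agent.S0981.result e (F := GaloisField 2 4) (card_galois 4 (by norm_num))
    exact ⟨f.trans g.symm⟩
  · have : Fact (Nat.Prime 13) := ⟨by norm_num⟩
    obtain ⟨f⟩ := Order5616.equiv_psl hT; obtain ⟨g⟩ := Order5616.equiv_psl e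
    exact ⟨f.trans g.symm⟩

end

variable {S : Type u} [Group S] [Finite S] [IsSimpleGroup S]

theorem equiv_psl_of_card (F : Type v) [Field F] [Fintype F] {q n : ℕ} (hq : Fintype.card F = q)
    (h4 : 4 ≤ q) (hn : q * (q ^ 2 - 1) = Nat.gcd 2 (q - 1) * n) (hmem : n ∈ orders)
    (hS : Nat.card S = n) : Nonempty (S ≃* ProjectiveSpecialLinearGroup (Fin 2) F) := by
  classical
  obtain ⟨hs, hc⟩ := psl_simple_card F hq h4 hn
  exact ⟨(nonempty_equiv (S := S) (T := ProjectiveSpecialLinearGroup (Fin 2) F) (hS ▸ hmem)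
    (hc.trans hS.symm)).some.symm⟩

/-- The graph of `PSL(2,p)`. -/
theorem data_prime {p n : ℕ} [Fact p.Prime] (h5 : 5 < p) (hn : p * (p ^ 2 - 1) = Nat.gcd 2 (p - 1) * n)
    (hmem : n ∈ orders) (hS : Nat.card S = n) :
    Cfsg.degreePrimes S = {r : ℕ | r.Prime ∧ r ∣ p * (p ^ 2 - 1)} :=
  (Cfsg.Agent.S4774.result (ZMod p) p (by omega) p (ZMod.card p) h5
    (Or.inl (equiv_psl_of_card (ZMod p) (ZMod.card p) (by omega) hn hmem hS))).1

/-- The graph of `PSL(2,2^k)`. -/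
theorem data_even {k n : ℕ} (hk : 2 ≤ k) (hn : 2 ^ k * ((2 ^ k) ^ 2 - 1) = Nat.gcd 2 (2 ^ k - 1) * n)
    (hmem : n ∈ orders) (hS : Nat.card S = n) :
    Cfsg.degreePrimes S = {r : ℕ | r.Prime ∧ r ∣ 2 ^ k * ((2 ^ k) ^ 2 - 1)} ∧
    ∀ r s : ℕ, (Cfsg.degreeGraph S).Adj r s ↔ (r ≠ s ∧ r.Prime ∧ s.Prime ∧
      ((r ∣ 2 ^ k + 1 ∧ s ∣ 2 ^ k + 1) ∨ (r ∣ 2 ^ k - 1 ∧ s ∣ 2 ^ k - 1))) := by
  have : Fintype (GaloisField 2 k) := Fintype.ofFinite _
  have h4 : 4 ≤ 2 ^ k := by
    calc 4 = 2 ^ 2 := by norm_num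
      _ ≤ 2 ^ k := Nat.pow_le_pow_right (by norm_num) hk
  exact Cfsg.Agent.S4812.result (GaloisField 2 k) (2 ^ k) (card_galois k (by omega)) h4
    (Or.inl (equiv_psl_of_card _ (card_galois k (by omega)) h4 hn hmem hS))

/-- The graph of the simple group of order 360. -/
theorem data_360 (hS : Nat.card S = 360) :
    Cfsg.degreePrimes S = {r : ℕ | r.Prime ∧ r ∣ 9 * (9 ^ 2 - 1)} ∧
    ∀ r s : ℕ, (Cfsg.degreeGraph S).Adj r s ↔ (r ≠ s ∧ r.Prime ∧ s.Prime ∧ r ∣ 9 ^ 2 - 1 ∧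
      s ∣ 9 ^ 2 - 1 ∧ (r = 2 ∨ s = 2 ∨ (r ∣ 9 + 1 ∧ s ∣ 9 + 1) ∨ (r ∣ 9 - 1 ∧ s ∣ 9 - 1))) := by
  have : Fintype (GaloisField 3 2) := Fintype.ofFinite _
  have hc : Fintype.card (GaloisField 3 2) = 9 := by
    rw [← Nat.card_eq_fintype_card, GaloisField.card 3 2 (by norm_num)]; norm_num
  exact Cfsg.Agent.S4774.result (GaloisField 3 2) 3 (by norm_num) 9 hc (by norm_num)
    (Or.inl (equiv_psl_of_card _ hc (by norm_num) (n := 360) (by norm_num) (by simp [orders]) hS))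

/-- The largest prime divisor of the order divides a degree. -/
theorem topPrime_mem (h : Nat.card S ∈ orders) : topPrime (Nat.card S) ∈ Cfsg.degreePrimes S := by
  have h' := h
  simp only [orders, List.mem_cons, List.not_mem_nil, or_false] at h'
  rcases h' with e | e | e | e | e | e | e | e | e | e | e <;> rw [e] <;> norm_num [topPrime] <;>
    rw [e] at h
  · rw [(data_even (k := 2) le_rfl (by norm_num) h e).1]; norm_num
  · have : Fact (Nat.Prime 7) := ⟨by norm_num⟩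
    rw [data_prime (p := 7) (by norm_num) (by norm_num) h e]; norm_num
  · rw [(data_360 e).1]; norm_num
  · rw [(data_even (k := 3) (by norm_num) (by norm_num) h e).1]; norm_num
  · have : Fact (Nat.Prime 11) := ⟨by norm_num⟩
    rw [data_prime (p := 11) (by norm_num) (by norm_num) h e]; norm_num
  · have : Fact (Nat.Prime 13) := ⟨by norm_num⟩
    rw [data_prime (p := 13) (by norm_num) (by norm_num) h e]; norm_num
  · have : Fact (Nat.Prime 17) := ⟨by norm_num⟩
    rw [data_prime (p := 17) (by norm_num) (by norm_num) h e]; norm_num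
  · exact (degreePrimes_2520 e).2.2
  · have : Fact (Nat.Prime 19) := ⟨by norm_num⟩
    rw [data_prime (p := 19) (by norm_num) (by norm_num) h e]; norm_num
  · rw [(data_even (k := 4) (by norm_num) (by norm_num) h e).1]; norm_num
  · exact (degreePrimes_5616 e).2

theorem two_mem_168 (hS : Nat.card S = 168) : 2 ∈ Cfsg.degreePrimes S := by
  have : Fact (Nat.Prime 7) := ⟨by norm_num⟩
  rw [data_prime (p := 7) (n := 168) (by norm_num) (by norm_num) (by simp [orders]) hS]; norm_num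

theorem data_504 (hS : Nat.card S = 504) :
    2 ∈ Cfsg.degreePrimes S ∧ ¬ (Cfsg.degreeGraph S).Adj 2 3 := by
  obtain ⟨h1, h2⟩ := data_even (k := 3) (n := 504) (by norm_num) (by norm_num) (by simp [orders]) hS
  refine ⟨by rw [h1]; norm_num, ?_⟩
  rw [h2]
  norm_num

theorem adj_360 (hS : Nat.card S = 360) :
    ¬ (Cfsg.degreeGraph S).Adj 2 3 ∧ (Cfsg.degreeGraph S).Adj 2 5 := by
  obtain ⟨-, h2⟩ := data_360 hS
  rw [h2, h2]
  norm_num

end Cfsg.Lib.Small.DegreeGraph
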